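import Cfsg.Agent.H504.TwoZ
import Cfsg.Agent.S4558

/-!
# S4897: criteria for the rows of the exceptional groups (task 1815)

* `two_of_exact` : a cyclic torus with at least three classes (from `CycExact`);
* `two_of_exact_st` : a cyclic torus with two classes, a second isolated prime and the Steinberg character.
-/

set_option autoImplicit false
set_option linter.unusedSectionVars false

namespace Cfsg.Agent.H120.Two

open Cfsg Cfsg.Agent.Characters.Core Cfsg.Agent.H504.ZeroTI Cfsg.Agent.H504.Zeros Cfsg.Agent.H504.TwoZ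
  Cfsg.Agent.H129.CycT

universe u

variable {G : Type u} [Group G] [Finite G]

/-- **One cyclic torus** of order `a` with at least three classes -/
theorem two_of_exact {a e k : ℕ} (h : CycExact G a) (hea : e < a) (h1 : 1 < a) {N : ℤ}
    (hN : (Nat.card G : ℤ) = a * N) (hmod : ((N : ℤ) : ZMod a) = e) (hk : k ≤ Nat.card (ConjClasses G))
    (hm : ∀ m, a = e * m + 1 → 3 ≤ m ∧ e + m + 2 ≤ k) : Cfsg.Agent.H504.TwoZ.Two G := by
  obtain ⟨T, hT, hc, hz⟩ := h
  have hA := cc_of_cyclic hT hz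
  have he := eIdx_of_int hA hc hea h1 hN hmod
  obtain ⟨m, hem⟩ := exists_m hA
  rw [hc, he] at hem
  obtain ⟨h2, h3⟩ := hm m hem
  exact two_of_ti hA he h2 (by rw [hc]; exact hem) hk h3

/-- a character of degree `p ^ n` does not vanish on elements of prime order `≠ p` -/
theorem ne_zero_of_deg {p n : ℕ} (hp : p.Prime) {θ : IrrCharacter G} (h : charDegree (θ : G → ℂ) = p ^ n) {x : G}
    {l : ℕ} (hl : l.Prime) (hx : orderOf x = l) (hne : l ≠ p) : (θ : G → ℂ) x ≠ 0 := by
  intro h0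
  have : Fact l.Prime := ⟨hl⟩
  have h1 := Cfsg.Agent.S4558.result l (θ : G → ℂ) (isIrr_isCharacter θ.2) x ⟨1, by rw [pow_one]; exact hx⟩ h0
  rw [h] at h1
  exact hne ((Nat.prime_dvd_prime_iff_eq hl hp).1 (hl.dvd_of_dvd_pow h1))

/-- the orders of conjugate elements -/
theorem not_conj_of_order {x y : G} (h : orderOf x ≠ orderOf y) : ¬ IsConj x y := by
  intro hc
  obtain ⟨c, rfl⟩ := isConj_iff.1 hc
  exact h ((MulAut.conj c).orderOf_eq x).symm

/-- **A `CC`-subgroup with two classes, a column outside and a character of degree `p ^ n` with three zeros** -/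
theorem two_of_ti_st {p n : ℕ} (hp : p.Prime) {θ : IrrCharacter G} (hθ : charDegree (θ : G → ℂ) = p ^ n)
    (h3θ : 3 ≤ zc θ) {A : Subgroup G} (hA : CC A) {e m k c : ℕ} (he : eIdx A = e)
    (hm : 2 ≤ m) (hem : Nat.card A = e * m + 1) (hk : k ≤ Nat.card (ConjClasses G)) {a : G} (haA : a ∈ A)
    (ha : (orderOf a).Prime) (hap : orderOf a ≠ p) {x : G} (hx : (orderOf x).Prime) (hxp : orderOf x ≠ p)
    (hxA : ∀ b ∈ A, b ≠ 1 → ¬ IsConj x b) (hc : nv x ≤ c) (h : e + m + c < k + 2) :
    Cfsg.Agent.H504.TwoZ.Two G := by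
  classical
  have := finite_irr (G := G)
  obtain ⟨s, hs, hsm, hsA⟩ := exists_reps hA (he ▸ hem)
  have h1 := le_ncard_compl hA he (by omega) hem hk
  have ha1 : a ≠ 1 := by
    rintro rfl
    rw [orderOf_one] at ha
    exact Nat.not_prime_one ha
  -- a character vanishing on `A` and at `x`
  obtain ⟨χ, hχA, hχx⟩ : ∃ χ ∈ ((NV A)ᶜ : Set (IrrCharacter G)), (χ : G → ℂ) x = 0 := by
    by_contra hcon
    push Not at hcon
    have hone : (⟨1, isIrr_one⟩ : IrrCharacter G) ∉ ((NV A)ᶜ : Set (IrrCharacter G)) := by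
      intro h0
      have := apply_eq_zero_of_compl h0 haA ha1
      exact one_ne_zero (α := ℂ) this
    have hθA : θ ∉ ((NV A)ᶜ : Set (IrrCharacter G)) := by
      intro h0
      exact ne_zero_of_deg hp hθ ha rfl hap (apply_eq_zero_of_compl h0 haA ha1)
    have hne : θ ≠ (⟨1, isIrr_one⟩ : IrrCharacter G) := by
      rintro rfl
      have hpos : 0 < zc (⟨1, isIrr_one⟩ : IrrCharacter G) := by omega
      rw [zc, Nat.card_pos_iff] at hpos
      obtain ⟨⟨c, hc⟩⟩ := hpos.1
      obtain ⟨g, rfl⟩ := ConjClasses.exists_rep c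
      exact one_ne_zero (α := ℂ) (hc g rfl)
    have hsub : insert θ (insert (⟨1, isIrr_one⟩ : IrrCharacter G) ((NV A)ᶜ : Set (IrrCharacter G))) ⊆
        {χ : IrrCharacter G | (χ : G → ℂ) x ≠ 0} := by
      intro χ hχ
      rcases hχ with rfl | rfl | hχ
      · exact ne_zero_of_deg hp hθ hx rfl hxp
      · exact one_ne_zero
      · exact hcon χ hχ
    have h5 := Set.ncard_le_ncard hsub (Set.toFinite _)
    rw [Set.ncard_insert_of_notMem (by
      intro h6
      rcases h6 with h6 | h6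
      · exact hne h6
      · exact hθA h6) (Set.toFinite _), Set.ncard_insert_of_notMem hone (Set.toFinite _)] at h5
    have h7 : ({χ : IrrCharacter G | (χ : G → ℂ) x ≠ 0}).ncard ≤ c := hc
    omega
  have hxs : x ∉ s := fun h => hxA x (hsA x h).1 (hsA x h).2 (IsConj.refl x)
  have hns : NonConj (insert x s) := by
    intro g hg h hh hc
    rcases Finset.mem_insert.1 hg with h1 | hg' <;> rcases Finset.mem_insert.1 hh with h2 | hh'
    · rw [h1, h2]
    · rw [h1] at hc
      exact absurd hc (hxA h (hsA h hh').1 (hsA h hh').2)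
    · rw [h2] at hc
      exact absurd hc.symm (hxA g (hsA g hg').1 (hsA g hg').2)
    · exact hs g hg' h hh' hc
  refine ⟨θ, χ, ?_, h3θ, le_trans ?_ (le_zc hns ?_)⟩
  · rintro rfl
    exact ne_zero_of_deg hp hθ ha rfl hap (apply_eq_zero_of_compl hχA haA ha1)
  · rw [Finset.card_insert_of_notMem hxs]
    omega
  · intro g hg
    rcases Finset.mem_insert.1 hg with rfl | hg
    · exact hχx
    · exact apply_eq_zero_of_compl hχA (hsA g hg).1 (hsA g hg).2

/-- the Steinberg character with three `p`-singular classes -/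
theorem exists_st {p : ℕ} (hp : p.Prime) (h : Cfsg.Agent.H167.StChar.HasSt p G) (t : Finset G) (ht : NonConj t)
    (htp : ∀ g ∈ t, p ∣ orderOf g) (h3 : 3 ≤ t.card) : ∃ θ : IrrCharacter G,
      charDegree (θ : G → ℂ) = p ^ (Nat.card G).factorization p ∧ 3 ≤ zc θ := by
  have : Fact p.Prime := ⟨hp⟩
  obtain ⟨χ, h1, h2, -⟩ := h
  have h4 : charDegree χ = p ^ (Nat.card G).factorization p := by
    have := Cfsg.Agent.Blocks.Basic.irr_one_eq_charDegree h1
    rw [h2] at this
    exact_mod_cast this.symm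
  refine ⟨⟨χ, h1⟩, h4, h3.trans (le_zc ht fun g hg => ?_)⟩
  refine Cfsg.Agent.H713.irr_zero_of_singular (χ := ⟨χ, h1⟩) ?_ (htp g hg)
  show (charDegree χ).factorization p = _
  rw [h4, Nat.factorization_pow, Finsupp.smul_apply, hp.factorization_self, smul_eq_mul, mul_one]

/-- **Two isolated primes and the Steinberg character** -/
theorem two_of_exact_st {p : ℕ} (hp : p.Prime) (hSt : Cfsg.Agent.H167.StChar.HasSt p G) (t : Finset G)
    (ht : NonConj t) (htp : ∀ g ∈ t, p ∣ orderOf g) (h3 : 3 ≤ t.card) {a b e m k : ℕ} (hA : CycExact G a)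
    (hB : CycExact G b) (ha : a.Prime) (hb : b.Prime) (hab : a ≠ b) (hap : a ≠ p) (hbp : b ≠ p)
    (hea : e < a) {N : ℤ} (hN : (Nat.card G : ℤ) = a * N) (hmod : ((N : ℤ) : ZMod a) = e)
    (hm : 2 ≤ m) (hem : a = e * m + 1) (hk : k ≤ Nat.card (ConjClasses G)) (h : e + m + b < k + 2) :
    Cfsg.Agent.H504.TwoZ.Two G := by
  obtain ⟨θ, hθ, hθ3⟩ := exists_st hp hSt t ht htp h3
  obtain ⟨T, hT, hc, hz⟩ := hA
  obtain ⟨T', hT', hc', hz'⟩ := hB
  have hCC := cc_of_cyclic hT hz
  have he := eIdx_of_int hCC hc hea ha.one_lt hN hmod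
  have : Fact a.Prime := ⟨ha⟩
  have : Fact b.Prime := ⟨hb⟩
  obtain ⟨⟨y, hy⟩, hyo⟩ := exists_prime_orderOf_dvd_card' (G := T) a (by rw [hc])
  obtain ⟨⟨x, hx⟩, hxo⟩ := exists_prime_orderOf_dvd_card' (G := T') b (by rw [hc'])
  rw [Subgroup.orderOf_mk] at hyo hxo
  have hx1 : x ≠ 1 := by
    rintro rfl
    rw [orderOf_one] at hxo
    exact hb.one_lt.ne hxo
  refine two_of_ti_st hp hθ hθ3 hCC he hm (by rw [hc]; exact hem) hk hy (by rw [hyo]; exact ha)
    (by rw [hyo]; exact hap) (x := x) (by rw [hxo]; exact hb) (by rw [hxo]; exact hbp) ?_ (c := b) ?_ h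
  · intro z hz1 hz2
    apply not_conj_of_order
    rw [hxo]
    intro h5
    have h6 : orderOf z ∣ a := by
      have := orderOf_dvd_natCard (⟨z, hz1⟩ : T)
      rwa [← Subgroup.orderOf_coe, hc] at this
    rw [← h5] at h6
    exact hab ((Nat.prime_dvd_prime_iff_eq hb ha).1 h6).symm
  · have := nv_le_card_centralizer x
    rwa [hz' x hx hx1, hc'] at this

end Cfsg.Agent.H120.Two
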