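import Cfsg.Agent.H504.TwoExt
import Cfsg.Agent.H92.ExcOrd
import Cfsg.Agent.S1054
import Cfsg.Agent.S1055

/-!
# S4897: the condition `Row2` for the exceptional groups (task 1815)

* `row2_four_mul` : elements of order `4 p`, `p` odd;
* `row2_two_mul` : elements of order `2 r`, `2 s` in characteristic two;
* `row2_twelve` : elements of order 4 and 12 in characteristic two;
* `row2_g2`, `row2_f4`, `row2_e8`.
-/

set_option autoImplicit false
set_option linter.unusedSectionVars false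

namespace Cfsg.Agent.H120.Two

open Cfsg Cfsg.Lie Cfsg.Agent.H92.KTools Cfsg.Agent.H92.ExcSL2 Cfsg.Agent.H92.ExcOrd
  Cfsg.Agent.ChevalleyStructure Cfsg.Agent.ChevalleyStructure.Elts Cfsg.Agent.ChevalleyStructure.SL2Hom
open Cfsg.Agent.H504.TwoZ Cfsg.Agent.H504.Zeros

universe u

section gen

variable {S : Type u} [Group S] [Finite S] [IsSimpleGroup S] (hna : ¬ IsMulCommutative S)

include hna in
/-- `p, 2p, 4p` -/
theorem row2_four_mul {p : ℕ} (hp : p.Prime) (h : IsLieTypeChar p S) (h4 : HasOrd S (4 * p)) : Row2 S := by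
  have h0 := hp.pos
  refine row2_of_lie_orders hp hna h {p, 2 * p, 4 * p} ?_ ?_
  · intro n hn
    simp only [Finset.mem_insert, Finset.mem_singleton] at hn
    rcases hn with rfl | rfl | rfl
    · exact ⟨dvd_rfl, h4.of_dvd ⟨4, by ring⟩ (by omega)⟩
    · exact ⟨⟨2, by ring⟩, h4.of_dvd ⟨2, by ring⟩ (by omega)⟩
    · exact ⟨⟨4, by ring⟩, h4⟩
  · rw [Finset.card_insert_of_notMem, Finset.card_pair]
    · omega
    · simp only [Finset.mem_insert, Finset.mem_singleton, not_or]
      omega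

include hna in
/-- `2, 2r, 2s` -/
theorem row2_two_mul (h : IsLieTypeChar 2 S) {r s : ℕ} (hr : 1 < r) (hs : 1 < s) (hrs : r ≠ s)
    (h1 : HasOrd S (2 * r)) (h2 : HasOrd S (2 * s)) : Row2 S := by
  refine row2_of_lie_orders Nat.prime_two hna h {2, 2 * r, 2 * s} ?_ ?_
  · intro n hn
    simp only [Finset.mem_insert, Finset.mem_singleton] at hn
    rcases hn with rfl | rfl | rfl
    · exact ⟨dvd_rfl, h1.of_dvd ⟨r, rfl⟩ (by omega)⟩
    · exact ⟨⟨r, rfl⟩, h1⟩
    · exact ⟨⟨s, rfl⟩, h2⟩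
  · rw [Finset.card_insert_of_notMem, Finset.card_pair]
    · omega
    · simp only [Finset.mem_insert, Finset.mem_singleton, not_or]
      omega

include hna in
/-- `4, 6, 12` -/
theorem row2_twelve (h : IsLieTypeChar 2 S) (h1 : HasOrd S 4 ∧ HasOrd S 6 ∧ HasOrd S 12) : Row2 S := by
  refine row2_of_lie_orders Nat.prime_two hna h {4, 6, 12} ?_ (by decide)
  intro n hn
  simp only [Finset.mem_insert, Finset.mem_singleton] at hn
  rcases hn with rfl | rfl | rfl
  · exact ⟨by norm_num, h1.1⟩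
  · exact ⟨by norm_num, h1.2.1⟩
  · exact ⟨by norm_num, h1.2.2⟩

end gen

/-! ### `IsLieTypeChar` -/

theorem lie_g2 (F : Type) [Field F] [Fintype F] (p : ℕ) [CharP F p] (h : 3 ≤ Fintype.card F) :
    IsLieTypeChar p ↥(chevG2.group F) :=
  Or.inr (Or.inr (Or.inr (Or.inr (Or.inr (Or.inr (Or.inl
    ⟨F, inferInstance, inferInstance, inferInstance, Or.inl ⟨h, ⟨MulEquiv.refl _⟩⟩⟩))))))

theorem lie_f4 (F : Type) [Field F] [Fintype F] (p : ℕ) [CharP F p] : IsLieTypeChar p ↥(chevF4.group F) :=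
  Or.inr (Or.inr (Or.inr (Or.inr (Or.inr (Or.inr (Or.inl
    ⟨F, inferInstance, inferInstance, inferInstance, Or.inr (Or.inl ⟨MulEquiv.refl _⟩)⟩))))))

theorem lie_e8 (F : Type) [Field F] [Fintype F] (p : ℕ) [CharP F p] : IsLieTypeChar p ↥(chevE8.group F) :=
  Or.inr (Or.inr (Or.inr (Or.inr (Or.inr (Or.inr (Or.inl
    ⟨F, inferInstance, inferInstance, inferInstance, Or.inr (Or.inr (Or.inr (Or.inr ⟨MulEquiv.refl _⟩)))⟩))))))

theorem lie_td4 (K : Type) [Field K] [Fintype K] (p : ℕ) [CharP K p] {q : ℕ} (hq : IsPrimePow q)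
    (hK : Fintype.card K = q ^ 3) : IsLieTypeChar p ↥(twistedD4 K q) :=
  Or.inr (Or.inr (Or.inr (Or.inr (Or.inr (Or.inr (Or.inr (Or.inl
    ⟨K, inferInstance, inferInstance, inferInstance, q, hq, Or.inr ⟨hK, ⟨MulEquiv.refl _⟩⟩⟩)))))))

/-! ### the tables -/

theorem e8_odd {F : Type u} [Field F] (p : ℕ) [hp : Fact p.Prime] [CharP F p] (h2 : p ≠ 2) :
    HasOrd (chevE8.group F) 4 ∧ HasOrd (chevE8.group F) (2 * p) ∧ HasOrd (chevE8.group F) (4 * p) :=
  ords_odd (D := chevE8) (by simp) (i := 0) (s := chevE8.simple 2) (r := chevE8.simple 1) (by decide +kernel)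
    (by decide +kernel) (by decide +kernel) (by decide +kernel) (by decide +kernel) (by decide +kernel) p h2

theorem e8_two {F : Type u} [Field F] (hF : (2 : F) = 0) :
    HasOrd (chevE8.group F) 4 ∧ HasOrd (chevE8.group F) 6 ∧ HasOrd (chevE8.group F) 12 :=
  ords_two (D := chevE8) (by simp) (r := 0) (s := 151) (k := 8) (j := 20) (c := -1) (by decide +kernel)
    (by decide +kernel) (by decide +kernel) (by decide +kernel) (by decide +kernel) (by decide +kernel)
    (by decide +kernel) (by decide +kernel) (by decide +kernel) (by decide +kernel) (by decide +kernel) hF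

theorem g2_odd {F : Type u} [Field F] (p : ℕ) [hp : Fact p.Prime] [CharP F p] (h2 : p ≠ 2) :
    HasOrd (chevG2.group F) 4 ∧ HasOrd (chevG2.group F) (2 * p) ∧ HasOrd (chevG2.group F) (4 * p) :=
  ords_odd (D := chevG2) (by simp) (i := 0) (s := 1) (r := 11) (by decide) (by decide)
    (by decide) (by decide) (by decide) (by decide) p h2

theorem g2_7 : 7 < chevG2.nroots := by decide
theorem g2_11 : 11 < chevG2.nroots := by decide

/-- products of commuting elements of the two `SL₂`'s of `G₂` -/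
theorem g2_mul {F : Type u} [Field F] {x y : SL2 F} {a b : ℕ} (hx : orderOf x = a) (hy : orderOf y = b)
    (ha : Odd a ∨ ∃ p : ℕ, Fact p.Prime ∧ CharP F p ∧ x = up 1 ∧ a = p) (hb : Odd b) (hab : a.Coprime b) :
    HasOrd (chevG2.group F) (a * b) := by
  have hG : InList chevG2 := by simp
  have h1 : orderOf (ph hG g2_11 x) = a := by
    rcases ha with ha | ⟨p, hp, hch, rfl, rfl⟩
    · rw [orderOf_ph hG g2_11 x (by rw [hx]; exact ha), hx]
    · rw [← coe_orderOf, coe_ph, phi_up hG g2_11, orderOf_xG hG g2_11 _]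
  have h2 : orderOf (ph hG g2_7 y) = b := by
    rw [orderOf_ph hG g2_7 y (by rw [hy]; exact hb), hy]
  exact HasOrd.mul_of_commute h1 h2 (ph_commute hG g2_11 g2_7 (by decide) _ _) hab

/-- odd primes dividing `q² - 1` for even `q` -/
theorem g2_two_mul {F : Type u} [Field F] [Finite F] [CharP F 2] {r : ℕ} (hr : r.Prime) (h2 : r ≠ 2)
    (hd : r ∣ Nat.card F ^ 2 - 1) : HasOrd (chevG2.group F) (2 * r) := by
  have : Fact (Nat.Prime 2) := ⟨Nat.prime_two⟩
  obtain ⟨g, hg⟩ := exists_orderOf_prime (F := F) hr hd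
  exact g2_mul (x := up 1) (y := g) (orderOf_up 2) hg (Or.inr ⟨2, inferInstance, inferInstance, rfl, rfl⟩)
    (hr.odd_of_ne_two h2) ((Nat.coprime_primes Nat.prime_two hr).2 h2.symm)

/-- two different odd primes -/
theorem exists_primes {q : ℕ} (hq : 4 ≤ q) (h2 : 2 ∣ q) : ∃ r s : ℕ, r.Prime ∧ s.Prime ∧ r ≠ 2 ∧ s ≠ 2 ∧ r ≠ s ∧
    r ∣ q - 1 ∧ s ∣ q + 1 := by
  have h3 : q - 1 ≠ 1 := by omega
  have h4 : q + 1 ≠ 1 := by omega
  have e1 := Nat.minFac_dvd (q - 1)
  have e2 := Nat.minFac_dvd (q + 1)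
  have f1 := Nat.minFac_prime h3
  have f2 := Nat.minFac_prime h4
  have n1 : (q - 1).minFac ≠ 2 := by
    intro h
    rw [h] at e1
    omega
  refine ⟨_, _, f1, f2, n1, ?_, ?_, e1, e2⟩
  · intro h
    rw [h] at e2
    omega
  · intro h
    rw [← h] at e2
    have h5 := (Nat.dvd_sub e2 e1)
    have h6 : q + 1 - (q - 1) = 2 := by omega
    rw [h6] at h5
    exact n1 ((Nat.prime_dvd_prime_iff_eq f1 Nat.prime_two).1 h5)

/-! ### the rows -/

theorem two_eq_zero (F : Type u) [Field F] [CharP F 2] : (2 : F) = 0 := by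
  exact_mod_cast CharP.cast_eq_zero F 2

theorem exists_ne_ne {F : Type u} [Field F] [Fintype F] (h3 : 3 ≤ Fintype.card F) : ∃ a : F, a ≠ 0 ∧ a ≠ 1 := by
  classical
  by_contra hcon
  push Not at hcon
  have h1 : (Finset.univ : Finset F) ⊆ {0, 1} := by
    intro a _
    by_cases ha : a = 0
    · simp [ha]
    · simp [hcon a ha]
  have h2 := (Finset.card_le_card h1).trans Finset.card_le_two
  rw [Finset.card_univ] at h2
  omega

theorem row2_g2 {F : Type} [Field F] [Fintype F] (h3 : 3 ≤ Fintype.card F) : Row2 ↥(chevG2.group F) := by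
  obtain ⟨p, hch⟩ := CharP.exists F
  have hp : p.Prime := CharP.char_is_prime F p
  have : Fact p.Prime := ⟨hp⟩
  have hex := exists_ne_ne h3
  obtain ⟨hs, hna⟩ := Cfsg.Agent.S1055.result (F := F) hex
  by_cases h2 : p = 2
  · subst h2
    have hq4 : 4 ≤ Fintype.card F ∧ 2 ∣ Fintype.card F := by
      have h5 : 2 ∣ Fintype.card F := by
        rw [← CharP.cast_eq_zero_iff F 2]
        exact Nat.cast_card_eq_zero F
      omega
    obtain ⟨r, s, hr, hs', hr2, hs2, hrs, hrd, hsd⟩ := exists_primes hq4.1 hq4.2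
    have e : Nat.card F ^ 2 - 1 = (Fintype.card F + 1) * (Fintype.card F - 1) := by
      rw [Nat.card_eq_fintype_card]
      have := Nat.sq_sub_sq (Fintype.card F) 1
      simpa using this
    exact row2_two_mul hna (lie_g2 F 2 h3) hr.one_lt hs'.one_lt hrs
      (g2_two_mul hr hr2 (by rw [e]; exact hrd.mul_left _)) (g2_two_mul hs' hs2 (by rw [e]; exact hsd.mul_right _))
  · exact row2_four_mul hna hp (lie_g2 F p h3) (g2_odd p h2).2.2

theorem row2_f4 {F : Type} [Field F] [Fintype F] : Row2 ↥(chevF4.group F) := by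
  obtain ⟨p, hch⟩ := CharP.exists F
  have hp : p.Prime := CharP.char_is_prime F p
  have : Fact p.Prime := ⟨hp⟩
  obtain ⟨hs, hna⟩ := Cfsg.Agent.S1054.result (F := F) chevF4 (by simp)
  by_cases h2 : p = 2
  · subst h2
    exact row2_twelve hna (lie_f4 F 2) (f4_two (two_eq_zero F))
  · exact row2_four_mul hna hp (lie_f4 F p) (f4_odd p h2).2.2

theorem row2_e8 {F : Type} [Field F] [Fintype F] : Row2 ↥(chevE8.group F) := by
  obtain ⟨p, hch⟩ := CharP.exists F
  have hp : p.Prime := CharP.char_is_prime F p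
  have : Fact p.Prime := ⟨hp⟩
  obtain ⟨hs, hna⟩ := Cfsg.Agent.S1054.result (F := F) chevE8 (by simp)
  by_cases h2 : p = 2
  · subst h2
    exact row2_twelve hna (lie_e8 F 2) (e8_two (two_eq_zero F))
  · exact row2_four_mul hna hp (lie_e8 F p) (e8_odd p h2).2.2

end Cfsg.Agent.H120.Two
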