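import Cfsg.Agent.H120.Two.Base
import Cfsg.Agent.H120.Two.Ords
import Cfsg.Agent.H504.TwoRows
import Cfsg.Agent.H504.ZerosD4
import Cfsg.Agent.S1071

/-!
# S4897: the row `³D₄(q)` (task 1815)
-/

set_option autoImplicit false

namespace Cfsg.Agent.H120.Two

open Cfsg Cfsg.Lie Cfsg.Agent.H504.Zeros Cfsg.Agent.H504.ZerosMod Cfsg.Agent.H129.CycT Cfsg.Agent.H504.ZeroTI
open Cfsg.Agent.H92.KTools Cfsg.Agent.H92.ExcSL2 Cfsg.Agent.H92.ExcOrd Cfsg.Agent.H436 Cfsg.Agent.H868.KTwD4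
open Cfsg.Agent.ChevalleyStructure Cfsg.Agent.H504.TwoZ

/-- **One cyclic torus** and elements of orders not dividing its order -/
theorem two_of_exact_orders {G : Type*} [Group G] [Finite G] {a e : ℕ} (h : CycExact G a) (hea : e < a) (h1 : 1 < a)
    {N : ℤ} (hN : (Nat.card G : ℤ) = a * N) (hmod : ((N : ℤ) : ZMod a) = e)
    (s : Finset ℕ) (hs : ∀ n ∈ s, ∃ g : G, orderOf g = n) (hsa : ∀ n ∈ s, n = 1 ∨ ¬ n ∣ a)
    (hm : ∀ m, a = e * m + 1 → 3 ≤ m) (hcard : e + 2 ≤ s.card) : Cfsg.Agent.H504.TwoZ.Two G := by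
  obtain ⟨T, hT, hc, hz⟩ := h
  have hA := cc_of_cyclic hT hz
  have he := eIdx_of_int hA hc hea h1 hN hmod
  obtain ⟨m, hem⟩ := exists_m hA
  rw [hc, he] at hem
  obtain ⟨t, ht, htc, hto⟩ := exists_of_orders (G := G) s hs
  refine two_of_ti hA he (hm m hem) (by rw [hc]; exact hem)
    (m_add_card_le hA (by rw [he, hc]; exact hem) t ht ?_) (by rw [htc]; omega)
  intro g hg b hb hb1 hcj
  have h4 : orderOf g = orderOf b := by
    obtain ⟨c, rfl⟩ := isConj_iff.1 hcj
    exact ((MulAut.conj c).orderOf_eq g).symm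
  have h5 : orderOf b ∣ a := by
    have := orderOf_dvd_natCard (⟨b, hb⟩ : T)
    rwa [← Subgroup.orderOf_coe, hc] at this
  rcases hsa _ (hto g hg) with h6 | h6
  · rw [h4] at h6
    exact hb1 (orderOf_eq_one_iff.1 h6)
  · exact h6 (h4 ▸ h5)

theorem not_dvd_phi {q a l : ℕ} (hq : 1 ≤ q) (haz : (a : ℤ) = 1 - (q : ℤ) ^ 2 + (q : ℤ) ^ 4) (hl : l.Prime)
    (h2 : l ≠ 2) (hl6 : l ∣ q ^ 6 - 1) : ¬ l ∣ a := by
  intro hla
  have h5 : ((q : ZMod l) ^ 6 - 1 = 0) := by
    have := (ZMod.natCast_eq_zero_iff (q ^ 6 - 1) l).2 hl6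
    rw [Nat.cast_sub (Nat.one_le_pow _ _ hq)] at this
    push_cast at this
    exact this
  have h6 : (1 - (q : ZMod l) ^ 2 + (q : ZMod l) ^ 4 = 0) := by
    have h7 : ((a : ℤ) : ZMod l) = 0 := by
      have := (ZMod.natCast_eq_zero_iff a l).2 hla
      exact_mod_cast this
    rw [haz] at h7
    push_cast at h7
    exact h7
  have h7 : (2 : ZMod l) = 0 := by
    linear_combination ((q : ZMod l) ^ 2 + 1) * h6 - h5
  have h8 : ((2 : ℕ) : ZMod l) = 0 := by exact_mod_cast h7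
  have h9 := (ZMod.natCast_eq_zero_iff 2 l).1 h8
  exact h2 ((Nat.prime_dvd_prime_iff_eq hl Nat.prime_two).1 h9)

section

variable {K : Type} [Field K] [Fintype K] {q : ℕ}

/-- the characteristic and the two primes, `q ≥ 3` -/
theorem exists_ords (hq : IsPrimePow q) (hK : Fintype.card K = q ^ 3) (h3 : 3 ≤ q) : ∃ p r s : ℕ, p.Prime ∧
    CharP K p ∧ p ∣ q ∧ r.Prime ∧ s.Prime ∧ p ≠ r ∧ p ≠ s ∧ r ≠ s ∧ r ≠ 2 ∧ s ≠ 2 ∧ r ∣ q ^ 6 - 1 ∧ s ∣ q ^ 6 - 1 ∧
    HasOrd ↥(twistedD4 K q) (p * r) ∧ HasOrd ↥(twistedD4 K q) (p * s) := by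
  have hq2 : 2 ≤ q := hq.two_le
  obtain ⟨φ, hφ⟩ := D4Fixed.exists_frob hq hK
  have hK' : Nat.card K = q ^ 3 := by rw [Nat.card_eq_fintype_card, hK]
  obtain ⟨r3, hr3⟩ := exists_prim (e := 3) hq2 (by norm_num) (by omega)
  obtain ⟨r6, hr6⟩ := exists_prim (e := 6) hq2 (by norm_num) (by omega)
  have h36 : r3 ≠ r6 := by
    rintro rfl
    exact absurd (hr3.unique hr6) (by norm_num)
  have o3 := hr3.odd (by norm_num)
  have o6 := hr6.odd (by norm_num)
  have hq6 : Nat.card K ^ 2 - 1 = q ^ 6 - 1 := by rw [hK', ← pow_mul]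
  obtain ⟨g3, hg3⟩ := exists_orderOf_prime (F := K) hr3.prime (by rw [hq6]; exact hr3.dvd (by norm_num))
  obtain ⟨g6, hg6⟩ := exists_orderOf_prime (F := K) hr6.prime (by rw [hq6]; exact hr6.dvd (by norm_num))
  obtain ⟨p, hp⟩ := CharP.exists K
  have hpr : p.Prime := CharP.char_is_prime K p
  have hf : Fact p.Prime := ⟨hpr⟩
  have hpq : p ∣ q := by
    have h2 : p ∣ q ^ 3 := by
      rw [← hK]
      exact (CharP.cast_eq_zero_iff K p _).1 (FiniteField.cast_card_eq_zero K)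
    exact hpr.dvd_of_dvd_pow h2
  have hp3 : p ≠ r3 := by rintro rfl; exact hr3.not_dvd hpq
  have hp6 : p ≠ r6 := by rintro rfl; exact hr6.not_dvd hpq
  have hcop3 : p.Coprime r3 := (Nat.coprime_primes hpr hr3.prime).2 hp3
  have hcop6 : p.Coprime r6 := (Nat.coprime_primes hpr hr6.prime).2 hp6
  have u3 := ord_p_mul (φ := φ) hφ p hg3 (Nat.odd_iff.2 o3) hcop3
  have u6 := ord_p_mul (φ := φ) hφ p hg6 (Nat.odd_iff.2 o6) hcop6
  exact ⟨p, r3, r6, hpr, hp, hpq, hr3.prime, hr6.prime, hp3, hp6, h36, by omega, by omega,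
    hr3.dvd (by norm_num), hr6.dvd (by norm_num), u3, u6⟩

/-- **`³D₄(q)`** : two characters -/
theorem two_td4 (hq : IsPrimePow q) (hK : Fintype.card K = q ^ 3) : Cfsg.Agent.H504.TwoZ.Two ↥(twistedD4 K q) := by
  have hq2 : 2 ≤ q := hq.two_le
  have hcard := Cfsg.Agent.S1067.result (K := K) hq hK
  have hsub : ∀ d, ((q ^ d - 1 : ℕ) : ℤ) = (q : ℤ) ^ d - 1 := by
    intro d
    rw [Nat.cast_sub (Nat.one_le_pow _ _ (by omega))]
    push_cast
    rfl
  have hc : (Nat.card ↥(twistedD4 K q) : ℤ) = (q : ℤ) ^ 12 * ((q : ℤ) ^ 2 - 1) *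
      ((q : ℤ) ^ 6 - 1) * ((q : ℤ) ^ 8 + (q : ℤ) ^ 4 + 1) := by
    rw [hcard, Nat.cast_mul, Nat.cast_mul, Nat.cast_mul, hsub, hsub]
    push_cast
    ring
  obtain ⟨a, ha⟩ : ∃ a, a = q ^ 4 - q ^ 2 + 1 := ⟨_, rfl⟩
  have h4 : 4 ≤ q ^ 2 := by nlinarith
  have e4 : q ^ 4 = q ^ 2 * q ^ 2 := by ring
  have hle : q ^ 2 ≤ q ^ 4 := by nlinarith
  have haz : (a : ℤ) = 1 - (q : ℤ) ^ 2 + (q : ℤ) ^ 4 := by
    rw [ha]
    push_cast [Nat.cast_sub hle]
    ring
  have ha' : a + q ^ 2 = q ^ 4 + 1 := by omega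
  have ha13 : 13 ≤ a := by nlinarith
  have hN : (Nat.card ↥(twistedD4 K q) : ℤ) = a * ((q : ℤ) ^ 12 * ((q : ℤ) ^ 2 - 1) *
      ((q : ℤ) ^ 6 - 1) * (1 + (q : ℤ) ^ 2 + (q : ℤ) ^ 4)) := by
    rw [hc, haz]
    ring
  have hmod : (((q : ℤ) ^ 12 * ((q : ℤ) ^ 2 - 1) *
      ((q : ℤ) ^ 6 - 1) * (1 + (q : ℤ) ^ 2 + (q : ℤ) ^ 4) : ℤ) : ZMod a) = ((4 : ℕ) : ZMod a) := by
    have h5 : ((1 - (q : ℤ) ^ 2 + (q : ℤ) ^ 4 : ℤ) : ZMod a) = 0 := by
      rw [← haz]
      simp
    push_cast at h5 ⊢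
    exact mod_D4_12 h5
  rcases Nat.eq_or_lt_of_le hq2 with h2 | h3
  · -- `q = 2`
    refine two_of_exact (a := a) (e := 4) (k := 12) (exact_tD4_12 hq hK haz) (by omega) (by omega)
      hN hmod (Cfsg.Agent.H868.KTwD4.td4 hq hK) ?_
    intro m hm
    rw [← h2] at ha'
    have : m = 3 := by omega
    rw [this]
    norm_num
  · -- `q ≥ 3`
    obtain ⟨p, r, s, hp, -, hpq, hr, hs, hpr, hps, hrs, hr2, hs2, hr6, hs6, u3, u6⟩ := exists_ords hq hK h3
    have hpa : ¬ p ∣ a := by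
      intro h
      have h5 : p ∣ q ^ 4 - q ^ 2 := Nat.dvd_sub (dvd_pow hpq (by norm_num)) (dvd_pow hpq (by norm_num))
      have h6 : a - (q ^ 4 - q ^ 2) = 1 := by omega
      have h7 := Nat.dvd_sub h h5
      rw [h6] at h7
      exact hp.one_lt.ne' (Nat.dvd_one.1 h7)
    have hra := not_dvd_phi (a := a) (by omega) haz hr hr2 hr6
    have hsa := not_dvd_phi (a := a) (by omega) haz hs hs2 hs6
    have hpp := hp.two_le
    have hrp := hr.two_le
    have hsp := hs.two_le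
    refine two_of_exact_orders (a := a) (e := 4) (exact_tD4_12 hq hK haz) (by omega) (by omega)
      hN hmod {1, p, r, s, p * r, p * s} ?_ ?_ ?_ ?_
    · intro n hn
      simp only [Finset.mem_insert, Finset.mem_singleton] at hn
      have hpr0 : p * r ≠ 0 := by positivity
      have hps0 : p * s ≠ 0 := by positivity
      rcases hn with rfl | rfl | rfl | rfl | rfl | rfl
      · exact ⟨1, orderOf_one⟩
      · exact u3.of_dvd (dvd_mul_right _ _) hpr0
      · exact u3.of_dvd (dvd_mul_left _ _) hpr0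
      · exact u6.of_dvd (dvd_mul_left _ _) hps0
      · exact u3
      · exact u6
    · intro n hn
      simp only [Finset.mem_insert, Finset.mem_singleton] at hn
      rcases hn with rfl | rfl | rfl | rfl | rfl | rfl
      · exact Or.inl rfl
      · exact Or.inr hpa
      · exact Or.inr hra
      · exact Or.inr hsa
      · exact Or.inr fun h => hpa ((dvd_mul_right _ _).trans h)
      · exact Or.inr fun h => hpa ((dvd_mul_right _ _).trans h)
    · intro m hm
      have h9 : 9 ≤ q ^ 2 := by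
        calc 9 = 3 ^ 2 := rfl
          _ ≤ q ^ 2 := Nat.pow_le_pow_left h3 2
      have h5 : 4 * m + q ^ 2 = q ^ 4 := by omega
      have h11 : 9 * q ^ 2 ≤ q ^ 4 := by rw [e4]; exact Nat.mul_le_mul_right _ h9
      omega
    · have hcop : ¬ r ∣ s := fun h => hrs ((Nat.prime_dvd_prime_iff_eq hr hs).1 h)
      have hcd : ({1, p, r, s, p * r, p * s} : Finset ℕ).card = 6 := by
        have m1 : p * r ≠ p * s := fun h => hrs (Nat.eq_of_mul_eq_mul_left hp.pos h)
        have m2 : p < p * r := lt_mul_of_one_lt_right hp.pos hr.one_lt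
        have m3 : p < p * s := lt_mul_of_one_lt_right hp.pos hs.one_lt
        have m4 : r < p * r := lt_mul_of_one_lt_left hr.pos hp.one_lt
        have m5 : s < p * s := lt_mul_of_one_lt_left hs.pos hp.one_lt
        have m6 : r ≠ p * s := by
          intro h
          rw [h] at hr
          exact Nat.not_prime_mul (by omega) (by omega) hr
        have m7 : s ≠ p * r := by
          intro h
          rw [h] at hs
          exact Nat.not_prime_mul (by omega) (by omega) hs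
        rw [Finset.card_insert_of_notMem, Finset.card_insert_of_notMem, Finset.card_insert_of_notMem,
          Finset.card_insert_of_notMem, Finset.card_insert_of_notMem, Finset.card_singleton]
        all_goals simp only [Finset.mem_insert, Finset.mem_singleton, not_or]
        all_goals omega
      rw [hcd]

/-- **`³D₄(q)`** : the almost simple groups -/
theorem row2_td4 (hq : IsPrimePow q) (hK : Fintype.card K = q ^ 3) : Row2 ↥(twistedD4 K q) := by
  have hq2 : 2 ≤ q := hq.two_le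
  obtain ⟨hs, hna⟩ := Cfsg.Agent.S1071.result (K := K) hq hK
  rcases Nat.eq_or_lt_of_le hq2 with h2 | h3
  · subst h2
    have h8 : Nat.card K = 8 := by rw [Nat.card_eq_fintype_card, hK]; norm_num
    have hK2 := h2_of h8
    have : Fact (Nat.Prime 2) := ⟨Nat.prime_two⟩
    have : CharP K 2 := CharTwo.of_one_ne_zero_of_two_eq_zero one_ne_zero hK2
    obtain ⟨φ, hφ⟩ := D4Fixed.exists_frob hq hK
    obtain ⟨c, hc7⟩ := exists_dg_order (K := K) (n := 7) (by rw [h8])
    have hd7 : orderOf (dg c) = 7 := by rw [orderOf_injective _ dg_injective, hc7]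
    have h3 := orderOf_thr (F := K)
    have o14 : HasOrd (twistedD4 K 2) (2 * 7) := ord_p_mul hφ 2 hd7 (by decide) (by decide)
    have o6 : HasOrd (twistedD4 K 2) (2 * 3) := ord_p_mul hφ 2 h3 (by decide) (by decide)
    exact row2_two_mul hna (lie_td4 K 2 hq hK) (by norm_num) (by norm_num) (by norm_num) o14 o6
  · obtain ⟨p, r, s, hp, hch, hpq, hr, hs', hpr, hps, hrs, hr2, hs2, hr6, hs6, u3, u6⟩ := exists_ords hq hK h3
    have hpp := hp.two_le
    have hrp := hr.two_le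
    have hsp := hs'.two_le
    have hpr0 : p * r ≠ 0 := by positivity
    refine row2_of_lie_orders hp hna (lie_td4 K p hq hK) {p, p * r, p * s} ?_ ?_
    · intro n hn
      simp only [Finset.mem_insert, Finset.mem_singleton] at hn
      rcases hn with rfl | rfl | rfl
      · exact ⟨dvd_rfl, u3.of_dvd (dvd_mul_right _ _) hpr0⟩
      · exact ⟨dvd_mul_right _ _, u3⟩
      · exact ⟨dvd_mul_right _ _, u6⟩
    · have m1 : p * r ≠ p * s := fun h => hrs (Nat.eq_of_mul_eq_mul_left hp.pos h)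
      have m2 : p < p * r := lt_mul_of_one_lt_right hp.pos hr.one_lt
      have m3 : p < p * s := lt_mul_of_one_lt_right hp.pos hs'.one_lt
      rw [Finset.card_insert_of_notMem, Finset.card_pair m1]
      simp only [Finset.mem_insert, Finset.mem_singleton, not_or]
      omega

/-- **The row `³D₄(q)`.** -/
theorem row_td4 (hq : IsPrimePow q) (hK : Fintype.card K = q ^ 3) : RowT ↥(twistedD4 K q) :=
  ⟨Or.inl (two_td4 hq hK), row2_td4 hq hK⟩

end

end Cfsg.Agent.H120.Two
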