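import Cfsg.Agent.S5746
import Cfsg.Agent.H690.Spor.RankThree

/-!
# `G₂(4)`: the rank three action of degree 416; an irreducible character of degree 350
-/

set_option autoImplicit false

namespace Cfsg.Agent.H120.Two.G24

open Cfsg MulAction Cfsg.Agent.H899.Perm416 Cfsg.Agent.H899.Orb416 Cfsg.Agent.H899.G24Prim
  Cfsg.Agent.H690.Spor.RankThree Cfsg.Agent.SporRec.G24Rel Cfsg.Agent.SporRec

theorem LA_zero : ∀ p : Fin 416, tA.L p = 0 := by
  intro p
  have := LA_lt p
  omega

/-- the two numbers -/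
theorem numbers (f g D : ℕ) (h1 : f + g = 415) (h2 : f * g * D = 416 * 315 * 100) (h3 : IsSquare D) :
    f = 350 ∨ g = 350 := by
  obtain ⟨d, rfl⟩ := h3
  have hd : d < 3621 := by
    by_contra h
    have hf : 0 < f * g := Nat.pos_of_ne_zero fun h0 => by
      rw [h0, zero_mul] at h2
      omega
    have : 3621 * 3621 ≤ d * d := Nat.mul_le_mul (by omega) (by omega)
    nlinarith
  have hf : f < 416 := by omega
  have hg : g = 415 - f := by omega
  subst hg
  have hdv : f ∣ 416 * 315 * 100 := ⟨(415 - f) * (d * d), by rw [← h2]; ring⟩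
  have key : ∀ f ∈ Finset.range 416, (f ∣ 416 * 315 * 100 ∧ 0 < f ∧ (415 - f) ∣ 416 * 315 * 100 / f ∧
      (Nat.sqrt (416 * 315 * 100 / f / (415 - f))) * (Nat.sqrt (416 * 315 * 100 / f / (415 - f))) =
        416 * 315 * 100 / f / (415 - f)) → (f = 350 ∨ 415 - f = 350) := by
    decide +kernel
  have hf0 : 0 < f := Nat.pos_of_ne_zero fun h0 => by
    rw [h0, zero_mul, zero_mul] at h2
    omega
  have hg0 : 0 < 415 - f := Nat.pos_of_ne_zero fun h0 => by
    rw [h0, mul_zero, zero_mul] at h2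
    omega
  have e1 : 416 * 315 * 100 / f = (415 - f) * (d * d) := by
    rw [← h2, mul_assoc, Nat.mul_div_cancel_left _ hf0]
  have e2 : 416 * 315 * 100 / f / (415 - f) = d * d := by
    rw [e1, Nat.mul_div_cancel_left _ hg0]
  refine key f (Finset.mem_range.2 hf) ⟨hdv, hf0, ⟨d * d, e1⟩, ?_⟩
  rw [e2, Nat.sqrt_eq]

/-- the rank three action -/
theorem exists_char {G : Type*} [Group G] (x : Fin 6 → G) (hx : ∀ w ∈ R6, (w.map x).prod = 1)
    (hc : Subgroup.closure (Set.range x) = ⊤) (hcard : 251596800 ≤ Nat.card G) :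
    ∃ χ : IrrCharacter G, (χ : G → ℂ) 1 = ((350 : ℕ) : ℂ) := by
  classical
  obtain ⟨hfin, hle⟩ := G24Upper.card_closure_le (fun i => (x i, P i)) (fun w hw => by
    have key : ∀ w : List (Fin 6), (w.map fun i => (x i, P i)).prod =
        ((w.map x).prod, (w.map P).prod) := by
      intro w
      induction w with
      | nil => rfl
      | cons i w ih => rw [List.map_cons, List.prod_cons, ih]; rfl
    rw [key, hx w hw, P_rel w hw]; rfl)
  obtain ⟨hG, hcG, φ, hφ⟩ := Cfsg.Agent.H899.BlockCrit.exists_hom x P hc _ hcard hfin hle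
  let _ : MulAction G (Fin 416) := MulAction.compHom (Fin 416) φ
  have hact : ∀ (i : Fin 6) (p : Fin 416), x i • p = P i p := by
    intro i p
    change φ (x i) p = P i p
    rw [hφ]
  have hJ := J_eq x hact hx hc hcG
  have ht : MulAction.IsPretransitive G (Fin 416) := by
    have h1 := orbit_univ x hact
    refine ⟨fun a b => ?_⟩
    have ha : a ∈ orbit G (0 : Fin 416) := by rw [h1]; trivial
    have hb : b ∈ orbit G (0 : Fin 416) := by rw [h1]; trivial
    obtain ⟨g, rfl⟩ := ha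
    obtain ⟨h, rfl⟩ := hb
    refine ⟨h * g⁻¹, ?_⟩
    change (h * g⁻¹) • (g • (0 : Fin 416)) = h • (0 : Fin 416)
    rw [smul_smul, inv_mul_cancel_right]
  have r1 : tJ.rt 1 < 416 := by decide +kernel
  have r2 : tJ.rt 2 < 416 := by decide +kernel
  have l1 : tJ.L (tJ.rt 1) = 1 := by decide +kernel
  have l2 : tJ.L (tJ.rt 2) = 2 := by decide +kernel
  have o1 := orbit_J x hact hJ 1 (by norm_num) ⟨tJ.rt 1, r1⟩ rfl l1
  have o2 := orbit_J x hact hJ 2 (by norm_num) ⟨tJ.rt 2, r2⟩ rfl l2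
  have h0 : tJ.L (0 : Fin 416) = 0 := by decide +kernel
  have hR := R3.of_orbits (G := G) ht (a := (0 : Fin 416)) (b := ⟨tJ.rt 1, r1⟩) (c := ⟨tJ.rt 2, r2⟩)
    (k := 315) (l := 100) (by
      intro h
      have h5 : tJ.L ((⟨tJ.rt 1, r1⟩ : Fin 416) : ℕ) = 1 := l1
      rw [h, h0] at h5
      exact absurd h5 (by norm_num)) (by
      intro h
      have h5 : tJ.L ((⟨tJ.rt 2, r2⟩ : Fin 416) : ℕ) = 2 := l2
      rw [h, h0] at h5
      exact absurd h5 (by norm_num))
    (by
      have h5 : orbit (stabilizer G (0 : Fin 416)) (⟨tJ.rt 1, r1⟩ : Fin 416) = _ := o1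
      rw [h5, ncard_label]
      exact cardJ_1)
    (by
      have h5 : orbit (stabilizer G (0 : Fin 416)) (⟨tJ.rt 2, r2⟩ : Fin 416) = _ := o2
      rw [h5, ncard_label]
      exact cardJ_2) (by norm_num) (by rw [Nat.card_eq_fintype_card, Fintype.card_fin])
  obtain ⟨χ₁, χ₂, f, g, D, hf, hg, -, hfg, hprod, hsq⟩ := hR.frame
  rcases numbers f g D hfg hprod (hsq (by omega)) with h | h
  · exact ⟨χ₁, by rw [hf, h]⟩
  · exact ⟨χ₂, by rw [hg, h]⟩

/-- **`G₂(4)` has an irreducible character of degree 350** -/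
theorem exists_350 {F : Type*} [Field F] [Fintype F] (hF : Fintype.card F = 4) :
    ∃ χ : IrrCharacter ↥(Cfsg.Lie.chevG2.group F), (χ : ↥(Cfsg.Lie.chevG2.group F) → ℂ) 1 = ((350 : ℕ) : ℂ) := by
  have hcard : Fintype.card GF4.F4 = Fintype.card F := by rw [hF]; exact GF4.F4.card_F4
  let e0 : GF4.F4 ≃+* F := FiniteField.ringEquivOfCardEq hcard
  let e : G24Mat.Gp ≃* Cfsg.Lie.chevG2.group F :=
    Cfsg.Agent.ChevStructure.FieldMap.groupEquivOfRingEquiv Cfsg.Lie.chevG2 e0
  refine exists_char (fun i => e (Cfsg.Agent.S5746.Ag i)) ?_ ?_ ?_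
  · intro w hw
    have h := congrArg e (Cfsg.Agent.S5746.rel_Ag w hw)
    rw [map_list_prod, List.map_map, map_one] at h
    exact h
  · have h := congrArg (Subgroup.map e.toMonoidHom) Cfsg.Agent.S5746.closure_Ag
    rw [MonoidHom.map_closure, ← Set.range_comp, ← MonoidHom.range_eq_map,
      MonoidHom.range_eq_top.2 e.surjective] at h
    exact h
  · rw [← Nat.card_congr e.toEquiv]
    exact G24Match.card_Gp_ge

end Cfsg.Agent.H120.Two.G24
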