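import Cfsg.Agent.H120.Two.Base
import Cfsg.Agent.H504.ZerosG23
import Cfsg.Agent.H378.ExcAdj
import Cfsg.Agent.H120.Two.Ords

/-!
# S4897: `Two G` for `G₂(q)` (`q ≠ 4`), `F₄(q)`, `E₈(q)` (task 1815)
-/

set_option autoImplicit false

namespace Cfsg.Agent.H120.Two

open Cfsg Cfsg.Lie Cfsg.Agent.H504.Zeros Cfsg.Agent.H504.ZerosMod Cfsg.Agent.H129.CycT
open Cfsg.Agent.H504.ZerosExc (cast_sub zmod_zero pow_le_classes)
open Cfsg.Agent.H92.KTools

theorem odd_mod {q : ℕ} : q % 3 = 0 ∨ q % 3 = 1 ∨ q % 3 = 2 := by omega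

/-! ### Class numbers -/

/-- semisimple classes and classes of non-conjugate `p`-singular elements -/
theorem add_le_classes' {G : Type*} [Group G] [Finite G] {p N : ℕ}
    (h : Nat.card {c : ConjClasses G // ∃ g : G, ConjClasses.mk g = c ∧ (orderOf g).Coprime p} = N)
    (t : Finset G) (ht : NonConj t) (hs : ∀ g ∈ t, ¬ (orderOf g).Coprime p) :
    N + t.card ≤ Nat.card (ConjClasses G) := by
  classical
  let f : {c : ConjClasses G // ∃ g : G, ConjClasses.mk g = c ∧ (orderOf g).Coprime p} ⊕ t →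
      ConjClasses G := Sum.elim Subtype.val fun g => ConjClasses.mk (g : G)
  have hord : ∀ g h : G, ConjClasses.mk g = ConjClasses.mk h → orderOf g = orderOf h := by
    intro g h he
    obtain ⟨c, rfl⟩ := isConj_iff.1 (ConjClasses.mk_eq_mk_iff_isConj.1 he)
    exact ((MulAut.conj c).orderOf_eq g).symm
  have hf : Function.Injective f := by
    rintro (⟨c, g, hg, hgp⟩ | ⟨g, hg⟩) (⟨d, g', hg', hgp'⟩ | ⟨g', hg'⟩) he
    · have he' : c = d := he
      subst he'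
      rfl
    · have he' : c = ConjClasses.mk g' := he
      rw [← hg] at he'
      exact absurd (hord _ _ he' ▸ hgp) (hs _ hg')
    · have he' : ConjClasses.mk g = d := he
      rw [← hg'] at he'
      exact absurd ((hord _ _ he').symm ▸ hgp') (hs _ hg)
    · have he' : ConjClasses.mk g = ConjClasses.mk g' := he
      have := ht g hg g' hg' (ConjClasses.mk_eq_mk_iff_isConj.1 he')
      subst this
      rfl
  have h1 := Nat.card_le_card_of_injective f hf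
  rw [Nat.card_sum, h, Nat.card_eq_fintype_card, Fintype.card_coe] at h1
  exact h1

section

variable {F : Type} [Field F] [Fintype F]

/-- **`G₂(q)`, `q ≥ 5`** -/
theorem two_g2 (h5 : 5 ≤ Fintype.card F) : Cfsg.Agent.H504.TwoZ.Two ↥(chevG2.group F) := by
  set q := Fintype.card F with hq
  have hk : q ^ 2 ≤ Nat.card (ConjClasses ↥(chevG2.group F)) := pow_le_classes chevG2 (by simp)
  have hcard := Cfsg.Agent.S1059.result (F := F) hq.symm
  have hc : (Nat.card ↥(chevG2.group F) : ℤ) = (q : ℤ) ^ 6 * ((q : ℤ) ^ 2 - 1) * ((q : ℤ) ^ 6 - 1) := by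
    rw [hcard]
    push_cast [cast_sub (d := 2) (show 1 ≤ q by omega), cast_sub (d := 6) (show 1 ≤ q by omega)]
    ring
  by_cases h3 : q % 3 = 1
  · -- `Φ₆`
    obtain ⟨a, ha⟩ : ∃ a, a = q ^ 2 - q + 1 := ⟨_, rfl⟩
    have hle : q ≤ q ^ 2 := by nlinarith
    have haz : (a : ℤ) = 1 - (q : ℤ) + (q : ℤ) ^ 2 := by
      rw [ha]
      push_cast [Nat.cast_sub hle]
      ring
    have h3a : ¬ 3 ∣ a := by
      intro h
      have h5 : (3 : ℤ) ∣ 1 - (q : ℤ) + (q : ℤ) ^ 2 := by rw [← haz]; exact_mod_cast h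
      obtain ⟨c, hc'⟩ : ∃ c : ℤ, (q : ℤ) = 3 * c + 1 := ⟨(q : ℤ) / 3, by omega⟩
      rw [hc'] at h5
      ring_nf at h5
      omega
    refine two_of_exact (a := a) (e := 6) (k := q ^ 2) (exact_G2_6 hq.symm haz h3a) ?_ ?_
      (N := (q : ℤ) ^ 6 * ((q : ℤ) ^ 2 - 1) * (-1 - (q : ℤ) + (q : ℤ) ^ 3 + (q : ℤ) ^ 4)) ?_ ?_ hk ?_
    · nlinarith
    · nlinarith
    · rw [hc, haz]
      ring
    · have h5 := zmod_zero haz
      push_cast at h5 ⊢
      exact mod_G2_6 h5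
    · intro m hm
      have h7 : 7 ≤ q := by omega
      have h6 : 6 * m + q = q ^ 2 := by omega
      have h8 : 7 ≤ m := by nlinarith
      exact ⟨by omega, by nlinarith⟩
  · -- `Φ₃`
    obtain ⟨a, ha⟩ : ∃ a, a = q ^ 2 + q + 1 := ⟨_, rfl⟩
    have haz : (a : ℤ) = 1 + (q : ℤ) + (q : ℤ) ^ 2 := by
      rw [ha]
      push_cast
      ring
    have h3a : ¬ 3 ∣ a := by
      intro h
      have h5 : (3 : ℤ) ∣ 1 + (q : ℤ) + (q : ℤ) ^ 2 := by rw [← haz]; exact_mod_cast h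
      have h6 : q % 3 = 0 ∨ q % 3 = 2 := by omega
      rcases h6 with h6 | h6
      · obtain ⟨c, hc'⟩ : ∃ c : ℤ, (q : ℤ) = 3 * c := ⟨(q : ℤ) / 3, by omega⟩
        rw [hc'] at h5
        ring_nf at h5
        omega
      · obtain ⟨c, hc'⟩ : ∃ c : ℤ, (q : ℤ) = 3 * c + 2 := ⟨(q : ℤ) / 3, by omega⟩
        rw [hc'] at h5
        ring_nf at h5
        omega
    refine two_of_exact (a := a) (e := 6) (k := q ^ 2) (exact_G2_3 hq.symm haz h3a) ?_ ?_
      (N := (q : ℤ) ^ 6 * ((q : ℤ) ^ 2 - 1) * (-1 + (q : ℤ) - (q : ℤ) ^ 3 + (q : ℤ) ^ 4)) ?_ ?_ hk ?_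
    · nlinarith
    · nlinarith
    · rw [hc, haz]
      ring
    · have h5 := zmod_zero haz
      push_cast at h5 ⊢
      exact mod_G2_3 h5
    · intro m hm
      have h6 : 6 * m = q ^ 2 + q := by omega
      have h7 : 5 ≤ m := by nlinarith
      exact ⟨by omega, by nlinarith⟩

/-- **`F₄(q)`, `q ≥ 3`** -/
theorem two_f4 (h3 : 3 ≤ Fintype.card F) : Cfsg.Agent.H504.TwoZ.Two ↥(chevF4.group F) := by
  set q := Fintype.card F with hq
  have hk : q ^ 4 ≤ Nat.card (ConjClasses ↥(chevF4.group F)) := pow_le_classes chevF4 (by simp)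
  have hcard := Cfsg.Agent.S1062.result (F := F) hq.symm
  have hc : (Nat.card ↥(chevF4.group F) : ℤ) = (q : ℤ) ^ 24 * ((q : ℤ) ^ 2 - 1) *
      ((q : ℤ) ^ 6 - 1) * ((q : ℤ) ^ 8 - 1) * ((q : ℤ) ^ 12 - 1) := by
    rw [hcard]
    push_cast [cast_sub (d := 2) (show 1 ≤ q by omega), cast_sub (d := 6) (show 1 ≤ q by omega),
      cast_sub (d := 8) (show 1 ≤ q by omega), cast_sub (d := 12) (show 1 ≤ q by omega)]
    ring
  obtain ⟨a, ha⟩ : ∃ a, a = q ^ 4 - q ^ 2 + 1 := ⟨_, rfl⟩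
  have h9 : 9 ≤ q ^ 2 := by nlinarith
  have h4 : q ^ 4 = q ^ 2 * q ^ 2 := by ring
  have hle : q ^ 2 ≤ q ^ 4 := by nlinarith
  have haz : (a : ℤ) = 1 - (q : ℤ) ^ 2 + (q : ℤ) ^ 4 := by
    rw [ha]
    push_cast [Nat.cast_sub hle]
    ring
  have ha' : a + q ^ 2 = q ^ 4 + 1 := by omega
  refine two_of_exact (a := a) (e := 12) (k := q ^ 4) (exact_F4_12 hq.symm haz) ?_ ?_
    (N := (q : ℤ) ^ 24 * ((q : ℤ) ^ 2 - 1) * ((q : ℤ) ^ 6 - 1) * ((q : ℤ) ^ 8 - 1) *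
      (-1 - (q : ℤ) ^ 2 + (q : ℤ) ^ 6 + (q : ℤ) ^ 8)) ?_ ?_ hk ?_
  · nlinarith
  · nlinarith
  · rw [hc, haz]
    ring
  · have h5 := zmod_zero haz
    push_cast at h5 ⊢
    exact mod_F4_12 h5
  · intro m hm
    have h5 : 12 * m + q ^ 2 = q ^ 4 := by omega
    have h6 : 6 ≤ m := by nlinarith
    have : 81 ≤ q ^ 4 := by nlinarith
    exact ⟨by omega, by omega⟩

/-- **`E₈(q)`** -/
theorem two_e8 : Cfsg.Agent.H504.TwoZ.Two ↥(chevE8.group F) := by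
  set q := Fintype.card F with hq
  have hq2 : 2 ≤ q := Fintype.one_lt_card
  have hk : q ^ 8 ≤ Nat.card (ConjClasses ↥(chevE8.group F)) := pow_le_classes chevE8 (by simp)
  have hcard := Cfsg.Agent.S1065.result (F := F) hq.symm
  have hc : (Nat.card ↥(chevE8.group F) : ℤ) = (q : ℤ) ^ 120 * ((q : ℤ) ^ 2 - 1) *
      ((q : ℤ) ^ 8 - 1) * ((q : ℤ) ^ 12 - 1) * ((q : ℤ) ^ 14 - 1) * ((q : ℤ) ^ 18 - 1) *
      ((q : ℤ) ^ 20 - 1) * ((q : ℤ) ^ 24 - 1) * ((q : ℤ) ^ 30 - 1) := by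
    rw [hcard, Nat.cast_mul, Nat.cast_mul, Nat.cast_mul, Nat.cast_mul, Nat.cast_mul, Nat.cast_mul,
      Nat.cast_mul, Nat.cast_mul, cast_sub (by omega), cast_sub (by omega), cast_sub (by omega),
      cast_sub (by omega), cast_sub (by omega), cast_sub (by omega), cast_sub (by omega),
      cast_sub (by omega), Nat.cast_pow]
  -- powers of `q`
  obtain ⟨t, ht⟩ : ∃ t, t = q ^ 3 := ⟨_, rfl⟩
  have e4 : q ^ 4 = q * t := by rw [ht]; ring
  have e5 : q ^ 5 = q * (q * t) := by rw [ht]; ring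
  have e7 : q ^ 7 = q * (t * t) := by rw [ht]; ring
  have e8 : q ^ 8 = q * (q * (t * t)) := by rw [ht]; ring
  have t8 : 8 ≤ t := by
    rw [ht]
    calc 8 = 2 ^ 3 := by norm_num
      _ ≤ q ^ 3 := Nat.pow_le_pow_left hq2 3
  have f5 : q ^ 5 + q ^ 4 + q ^ 3 ≤ q ^ 7 := by
    rw [e4, e5, e7, ← ht]
    nlinarith [Nat.mul_le_mul_left t t8, Nat.mul_le_mul_left (q * t) t8, Nat.mul_le_mul hq2 hq2]
  have f7 : 2 * q ^ 7 ≤ q ^ 8 := by
    rw [e8, e7]
    exact Nat.mul_le_mul_right _ hq2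
  have f8 : 256 ≤ q ^ 8 := by
    calc 256 = 2 ^ 8 := by norm_num
      _ ≤ q ^ 8 := Nat.pow_le_pow_left hq2 8
  have f1 : q ≤ q ^ 3 := by
    calc q = q ^ 1 := (pow_one q).symm
      _ ≤ q ^ 3 := Nat.pow_le_pow_right (by omega) (by norm_num)
  obtain ⟨a, ha⟩ : ∃ a, a = q ^ 8 + (q ^ 7 - (q ^ 5 + q ^ 4 + q ^ 3)) + q + 1 := ⟨_, rfl⟩
  have haz : (a : ℤ) = 1 + (q : ℤ) - (q : ℤ) ^ 3 - (q : ℤ) ^ 4 - (q : ℤ) ^ 5 + (q : ℤ) ^ 7 +
      (q : ℤ) ^ 8 := by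
    rw [ha]
    push_cast [Nat.cast_sub f5]
    ring
  refine two_of_exact (a := a) (e := 30) (k := q ^ 8) (exact_E8_30 hq.symm haz) ?_ ?_
    (N := (q : ℤ) ^ 120 * ((q : ℤ) ^ 2 - 1) *
      ((q : ℤ) ^ 8 - 1) * ((q : ℤ) ^ 12 - 1) * ((q : ℤ) ^ 14 - 1) * ((q : ℤ) ^ 18 - 1) *
      ((q : ℤ) ^ 20 - 1) * ((q : ℤ) ^ 24 - 1) * (-1 + (q : ℤ) - (q : ℤ) ^ 2 - (q : ℤ) ^ 5 + (q : ℤ) ^ 6 - (q : ℤ) ^ 7 + (q : ℤ) ^ 15 - (q : ℤ) ^ 16 + (q : ℤ) ^ 17 + (q : ℤ) ^ 20 - (q : ℤ) ^ 21 + (q : ℤ) ^ 22)) ?_ ?_ hk ?_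
  · omega
  · omega
  · rw [hc, haz]
    have h30 : ((q : ℤ) ^ 30 - 1) = (1 + (q : ℤ) - (q : ℤ) ^ 3 - (q : ℤ) ^ 4 - (q : ℤ) ^ 5 +
      (q : ℤ) ^ 7 + (q : ℤ) ^ 8) * (-1 + (q : ℤ) - (q : ℤ) ^ 2 - (q : ℤ) ^ 5 + (q : ℤ) ^ 6 - (q : ℤ) ^ 7 + (q : ℤ) ^ 15 - (q : ℤ) ^ 16 + (q : ℤ) ^ 17 + (q : ℤ) ^ 20 - (q : ℤ) ^ 21 + (q : ℤ) ^ 22) := by ring
    rw [h30]
    ring
  · have h5 := zmod_zero haz
    push_cast at h5 ⊢
    exact mod_E8_30 h5
  · intro m hm
    have h5 : 30 * m = q ^ 8 + (q ^ 7 - (q ^ 5 + q ^ 4 + q ^ 3)) + q := by omega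
    exact ⟨by omega, by omega⟩

/-- **`F₄(2)`** -/
theorem two_f4_two (h2 : Fintype.card F = 2) : Cfsg.Agent.H504.TwoZ.Two ↥(chevF4.group F) := by
  have hF2 : (2 : F) = 0 := by
    have h := FiniteField.cast_card_eq_zero F
    rw [h2] at h
    exact_mod_cast h
  have hp2 : Fact (Nat.Prime 2) := ⟨Nat.prime_two⟩
  have hch : CharP F 2 := CharTwo.of_one_ne_zero_of_two_eq_zero one_ne_zero hF2
  obtain ⟨o4, o6, o12⟩ := Cfsg.Agent.H92.ExcOrd.f4_two hF2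
  have hcard := Cfsg.Agent.S1062.result (F := F) h2
  have hcard' : Nat.card ↥(chevF4.group F) = 3311126603366400 := by
    rw [hcard]
    norm_num
  obtain ⟨hs, hna⟩ := Cfsg.Agent.S1054.result (F := F) chevF4 (by simp)
  have hn : Nat.card F = 2 := by rw [Nat.card_eq_fintype_card, h2]
  have hadj : ∀ r : ℕ, r.Prime → r ≠ 2 → r ∣ Nat.card ↥(chevF4.group F) →
      Cfsg.Agent.H378.ExcAdj.od 2 r ≠ 8 → Cfsg.Agent.H378.ExcAdj.od 2 r ≠ 12 → HasOrd ↥(chevF4.group F) (2 * r) := by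
    intro r hr hr2 hd h8 h12
    have h := Cfsg.Agent.H378.ExcAdj.adj_F4 F hr hd
    rw [hn] at h
    rcases h with h | h | h | h
    · exact absurd h hr2
    · obtain ⟨-, -, -, x, y, hx, hy, hc⟩ := h
      exact HasOrd.mul_of_commute hy hx hc.symm ((Nat.coprime_primes Nat.prime_two hr).2 hr2.symm)
    · exact absurd h h8
    · exact absurd h h12
  have d5 : Cfsg.Agent.H378.ExcAdj.od 2 5 ∣ 4 := Cfsg.Agent.H378.ExcAdj.od_dvd (by norm_num) (by norm_num)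
  have d7 : Cfsg.Agent.H378.ExcAdj.od 2 7 ∣ 3 := Cfsg.Agent.H378.ExcAdj.od_dvd (by norm_num) (by norm_num)
  have c5 := Nat.le_of_dvd (by norm_num) d5
  have c7 := Nat.le_of_dvd (by norm_num) d7
  have o10 : HasOrd ↥(chevF4.group F) 10 := hadj 5 (by norm_num) (by norm_num) (by rw [hcard']; norm_num)
    (by omega) (by omega)
  have o14 : HasOrd ↥(chevF4.group F) 14 := hadj 7 (by norm_num) (by norm_num) (by rw [hcard']; norm_num)
    (by omega) (by omega)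
  have o2 : HasOrd ↥(chevF4.group F) 2 := o4.of_dvd (by norm_num) (by norm_num)
  have hk' := Cfsg.Agent.H504.ZerosExc.add_le_classes (Cfsg.Agent.S2382.result h2 2 chevF4 (by simp))
    {2, 4, 6, 10, 12, 14} (by
    intro n hn
    simp only [Finset.mem_insert, Finset.mem_singleton] at hn
    rcases hn with rfl | rfl | rfl | rfl | rfl | rfl
    · exact ⟨o2, by decide⟩
    · exact ⟨o4, by decide⟩
    · exact ⟨o6, by decide⟩
    · exact ⟨o10, by decide⟩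
    · exact ⟨o12, by decide⟩
    · exact ⟨o14, by decide⟩)
  have hk2 : 22 ≤ Nat.card (ConjClasses ↥(chevF4.group F)) := by
    refine le_trans ?_ hk'
    decide
  obtain ⟨t, ht, htc, hto⟩ := exists_of_orders (G := ↥(chevF4.group F)) {4, 6, 12} (by
    intro n hn
    simp only [Finset.mem_insert, Finset.mem_singleton] at hn
    rcases hn with rfl | rfl | rfl
    · exact o4
    · exact o6
    · exact o12)
  have ha : ((17 : ℕ) : ℤ) = 1 + ((2 : ℕ) : ℤ) ^ 4 := by norm_num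
  have hb : ((13 : ℕ) : ℤ) = 1 - ((2 : ℕ) : ℤ) ^ 2 + ((2 : ℕ) : ℤ) ^ 4 := by norm_num
  refine two_of_exact_st Nat.prime_two (Cfsg.Agent.H167.StChar.hasSt_of_lie Nat.prime_two (lie_f4 F 2)) t ht ?_
    (by rw [htc]; decide) (a := 17) (b := 13) (e := 8) (m := 2) (k := 22) (exact_F4_8 h2 ha (by norm_num))
    (exact_F4_12 h2 hb) (by norm_num) (by norm_num) (by norm_num) (by norm_num) (by norm_num) (by norm_num)
    (N := 194772153139200) ?_ ?_ (by norm_num) (by norm_num) hk2 (by norm_num)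
  · intro g hg
    have := hto g hg
    simp only [Finset.mem_insert, Finset.mem_singleton] at this
    rcases this with h | h | h <;> rw [h] <;> norm_num
  · rw [hcard']
    norm_num
  · decide

end

/-- **`G₂(3)`** over `ZMod 3` -/
theorem two_g2_three' : Cfsg.Agent.H504.TwoZ.Two ↥(chevG2.group (ZMod 3)) := by
  have : Fact (Nat.Prime 3) := ⟨Nat.prime_three⟩
  have h3 : Fintype.card (ZMod 3) = 3 := ZMod.card 3
  have hcard := Cfsg.Agent.S1059.result (F := ZMod 3) h3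
  have hcard' : Nat.card ↥(chevG2.group (ZMod 3)) = 4245696 := by
    rw [hcard]
    norm_num
  have hs : IsSimpleGroup ↥(chevG2.group (ZMod 3)) :=
    (Cfsg.Agent.S1055.result (F := ZMod 3) (exists_ne_ne h3.ge)).1
  obtain ⟨S, hS, hSc, hSp⟩ := Cfsg.Agent.H504.ZerosG23.six_g2
  have hk := add_le_classes' (Cfsg.Agent.S2382.result h3 3 chevG2 (by simp)) S hS (fun g hg h => by
    have h1 := Nat.dvd_gcd (hSp g hg) (dvd_refl 3)
    rw [h] at h1
    exact absurd h1 (by norm_num))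
  have hk2 : 15 ≤ Nat.card (ConjClasses ↥(chevG2.group (ZMod 3))) := by
    refine le_trans ?_ hk
    rw [hSc]
    decide
  have ha : ((13 : ℕ) : ℤ) = 1 + ((3 : ℕ) : ℤ) + ((3 : ℕ) : ℤ) ^ 2 := by norm_num
  have hb : ((7 : ℕ) : ℤ) = 1 - ((3 : ℕ) : ℤ) + ((3 : ℕ) : ℤ) ^ 2 := by norm_num
  refine two_of_exact_st Nat.prime_three (Cfsg.Agent.H167.StChar.hasSt_of_lie Nat.prime_three
    (lie_g2 (ZMod 3) 3 h3.ge)) S hS hSp
    (by rw [hSc]; decide) (a := 13) (b := 7) (e := 6) (m := 2) (k := 15) (exact_G2_3 h3 ha (by norm_num))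
    (exact_G2_6 h3 hb (by norm_num)) (by norm_num) (by norm_num) (by norm_num) (by norm_num) (by norm_num)
    (by norm_num) (N := 326592) ?_ ?_ (by norm_num) (by norm_num) hk2 (by norm_num)
  · rw [hcard']
    norm_num
  · decide

/-- **`G₂(3)`** -/
theorem two_g2_three {F : Type} [Field F] [Fintype F] (h3 : Fintype.card F = 3) :
    Cfsg.Agent.H504.TwoZ.Two ↥(chevG2.group F) := by
  have h' : Fintype.card F = Fintype.card (ZMod 3) := by rw [h3, ZMod.card]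
  have e2 : F ≃+* ZMod 3 := FiniteField.ringEquivOfCardEq h'
  exact Cfsg.Agent.H504.TwoZ.Two.of_equiv (Cfsg.Agent.ChevalleyStructure.FieldIso.groupEquiv chevG2 e2) two_g2_three'

end Cfsg.Agent.H120.Two
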