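import Cfsg.Agent.H120.Two.Row1
import Cfsg.Agent.H120.Two.D4
import Cfsg.Agent.H120.Two.G24

/-!
# S4897: the rows `G₂(q)`, `F₄(q)`, `E₈(q)`, `³D₄(q)` (task 1815)
-/

set_option autoImplicit false

namespace Cfsg.Agent.H120.Two

open Cfsg Cfsg.Lie Cfsg.Agent.H504.Zeros Cfsg.Agent.H504.TwoZ
open Cfsg.Agent.H92.KTools Cfsg.Agent.H92.ExcSL2 Cfsg.Agent.H92.ExcOrd

section

variable {F : Type} [Field F] [Fintype F]

/-- **`G₂(4)`** : the Steinberg character and the character of degree 350 -/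
theorem two_g2_four (hF : Fintype.card F = 4) : Cfsg.Agent.H504.TwoZ.Two ↥(chevG2.group F) := by
  have hp2 : Fact (Nat.Prime 2) := ⟨Nat.prime_two⟩
  have hp5 : Fact (Nat.Prime 5) := ⟨by norm_num⟩
  have hF2 : (2 : F) = 0 := by
    have h := FiniteField.cast_card_eq_zero F
    rw [hF] at h
    have h2 : (2 : F) ^ 2 = 0 := by
      rw [← h]
      norm_num
    exact pow_eq_zero_iff (by norm_num) |>.1 h2
  have hch : CharP F 2 := CharTwo.of_one_ne_zero_of_two_eq_zero one_ne_zero hF2
  have hcard := Cfsg.Agent.S1059.result (F := F) hF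
  have hcard' : Nat.card ↥(chevG2.group F) = 2 ^ 12 * (3 ^ 3 * (5 ^ 2 * (7 * 13))) := by
    rw [hcard]
    norm_num
  have hs : IsSimpleGroup ↥(chevG2.group F) := (Cfsg.Agent.S1055.result (F := F) (exists_ne_ne (by omega))).1
  have hn : Nat.card F = 4 := by rw [Nat.card_eq_fintype_card, hF]
  -- orders
  obtain ⟨g3, hg3⟩ := exists_orderOf_prime (F := F) Nat.prime_three (by rw [hn]; norm_num)
  obtain ⟨g5, hg5⟩ := exists_orderOf_prime (F := F) (r := 5) (by norm_num) (by rw [hn]; norm_num)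
  have o6 : HasOrd ↥(chevG2.group F) (2 * 3) :=
    g2_mul (orderOf_up 2) hg3 (Or.inr ⟨2, hp2, hch, rfl, rfl⟩) (by decide) (by norm_num)
  have o10 : HasOrd ↥(chevG2.group F) (2 * 5) :=
    g2_mul (orderOf_up 2) hg5 (Or.inr ⟨2, hp2, hch, rfl, rfl⟩) (by decide) (by norm_num)
  have o15 : HasOrd ↥(chevG2.group F) (3 * 5) :=
    g2_mul hg3 hg5 (Or.inl (by decide)) (by decide) (by norm_num)
  have o2 : HasOrd ↥(chevG2.group F) 2 := o6.of_dvd (by norm_num) (by norm_num)
  have o5 : HasOrd ↥(chevG2.group F) 5 := o15.of_dvd (by norm_num) (by norm_num)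
  obtain ⟨s, hs1, hs2, hs3⟩ := autNC_of_orders (S := ↥(chevG2.group F)) {2, 2 * 3, 2 * 5} (by
    intro n hn
    simp only [Finset.mem_insert, Finset.mem_singleton] at hn
    rcases hn with rfl | rfl | rfl
    · exact o2
    · exact o6
    · exact o10)
  obtain ⟨t, ht1, ht2, ht3⟩ := autNC_of_orders (S := ↥(chevG2.group F)) {5, 2 * 5, 3 * 5} (by
    intro n hn
    simp only [Finset.mem_insert, Finset.mem_singleton] at hn
    rcases hn with rfl | rfl | rfl
    · exact o5
    · exact o10
    · exact o15)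
  -- the characters
  obtain ⟨χ, h1, h2, -⟩ := Cfsg.Agent.H167.StChar.hasSt_of_lie Nat.prime_two (lie_g2 F 2 (by omega))
  have h4 : charDegree χ = 2 ^ (Nat.card ↥(chevG2.group F)).factorization 2 := by
    have := Cfsg.Agent.Blocks.Basic.irr_one_eq_charDegree h1
    rw [h2] at this
    exact_mod_cast this.symm
  obtain ⟨ψ, hψ⟩ := G24.exists_350 hF
  have h5 : charDegree (ψ : ↥(chevG2.group F) → ℂ) = 350 := by
    have := Cfsg.Agent.Blocks.Basic.irr_one_eq_charDegree ψ.2
    rw [hψ] at this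
    exact_mod_cast this.symm
  have f2 : (Nat.card ↥(chevG2.group F)).factorization 2 = 12 := by
    rw [hcard', Nat.factorization_mul (by norm_num) (by norm_num), Nat.factorization_pow, Finsupp.add_apply,
      Finsupp.smul_apply, Nat.prime_two.factorization_self,
      Nat.factorization_eq_zero_of_not_dvd (n := 3 ^ 3 * (5 ^ 2 * (7 * 13))) (by norm_num), smul_eq_mul]
  have f5 : (Nat.card ↥(chevG2.group F)).factorization 5 = 2 := by
    have e : 2 ^ 12 * (3 ^ 3 * (5 ^ 2 * (7 * 13))) = 5 ^ 2 * (2 ^ 12 * 3 ^ 3 * 7 * 13) := by norm_num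
    rw [hcard', e, Nat.factorization_mul (by norm_num) (by norm_num), Nat.factorization_pow, Finsupp.add_apply,
      Finsupp.smul_apply, hp5.out.factorization_self,
      Nat.factorization_eq_zero_of_not_dvd (n := 2 ^ 12 * 3 ^ 3 * 7 * 13) (by norm_num), smul_eq_mul]
  have g5' : (350 : ℕ).factorization 5 = 2 := by
    have e : 350 = 5 ^ 2 * 14 := by norm_num
    rw [e, Nat.factorization_mul (by norm_num) (by norm_num), Nat.factorization_pow, Finsupp.add_apply,
      Finsupp.smul_apply, hp5.out.factorization_self,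
      Nat.factorization_eq_zero_of_not_dvd (n := 14) (by norm_num), smul_eq_mul]
  refine two_of_dz2 (⊤ : Subgroup ↥(chevG2.group F)) Subgroup.topEquiv (p := 2) (r := 5)
    (θ₁ := ⟨χ, h1⟩) (θ₂ := ψ) ?_ ?_ ?_ s t hs1 ht1 ?_ ?_ (by rw [hs2]; decide) (by rw [ht2]; decide)
  · show (charDegree χ).factorization 2 = _
    rw [h4, Nat.factorization_pow, Finsupp.smul_apply, Nat.prime_two.factorization_self, smul_eq_mul, mul_one]
  · rw [h5, g5', f5]
  · show charDegree χ ≠ _
    rw [h4, h5, f2]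
    norm_num
  · intro x hx
    have := hs3 x hx
    simp only [Finset.mem_insert, Finset.mem_singleton] at this
    rcases this with h | h | h <;> rw [h] <;> norm_num
  · intro x hx
    have := ht3 x hx
    simp only [Finset.mem_insert, Finset.mem_singleton] at this
    rcases this with h | h | h <;> rw [h] <;> norm_num

/-- **The row `G₂(q)`.** -/
theorem row_g2 (h3 : 3 ≤ Fintype.card F) : RowT ↥(chevG2.group F) := by
  refine ⟨Or.inl ?_, row2_g2 h3⟩
  rcases Nat.lt_or_ge (Fintype.card F) 5 with h | h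
  · have : Fintype.card F = 3 ∨ Fintype.card F = 4 := by omega
    rcases this with h | h
    · exact two_g2_three h
    · exact two_g2_four h
  · exact two_g2 h

/-- **The row `F₄(q)`.** -/
theorem row_f4 : RowT ↥(chevF4.group F) := by
  refine ⟨Or.inl ?_, row2_f4⟩
  have h2 : 2 ≤ Fintype.card F := Fintype.one_lt_card
  rcases Nat.eq_or_lt_of_le h2 with h | h
  · exact two_f4_two h.symm
  · exact two_f4 h

/-- **The row `E₈(q)`.** -/
theorem row_e8 : RowT ↥(chevE8.group F) := ⟨Or.inl two_e8, row2_e8⟩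

end

end Cfsg.Agent.H120.Two
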